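import Cfsg.Agent.Lib.Block.Orthogonality
import Cfsg.Agent.Lib.Block.KerNormal
import Cfsg.Agent.Lib.Solvable.PCore
import Mathlib.GroupTheory.SchurZassenhaus
import Mathlib.GroupTheory.Nilpotent
import Mathlib.GroupTheory.GroupAction.ConjAct

/-!
Principal blocks for two primes meeting only in the principal character.
-/

set_option autoImplicit false
set_option linter.unusedSectionVars false

namespace CfsgLib.BlockMeet

open Cfsg CfsgLib.Block
open scoped ComplexConjugate

universe u

variable {G : Type u} [Group G] [Finite G]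

/-- A `p`-element is conjugate into the centralizer of each Sylow `q`-subgroup when the principal
`p`- and `q`-blocks share only the principal character. -/
theorem exists_conj_centralizes {p q : ℕ} {Mp Mq : Ideal AlgInt} (hMp : IsPModular p Mp)
    (hMq : IsPModular q Mq)
    (h : ∀ χ : IrrCharacter G, χ ∈ principalBlock Mp G → χ ∈ principalBlock Mq G →
      (χ : G → ℂ) = fun _ => 1)
    (Q : Sylow q G) {u : G} (hu : ∃ k : ℕ, orderOf u = p ^ k) :
    ∃ x : G, IsConj u x ∧ (Q : Subgroup G) ≤ Subgroup.centralizer ({x} : Set G) := by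
  classical
  have := Fintype.ofFinite G
  have := Fintype.ofFinite (IrrCharacter G)
  have : Mp.IsPrime := hMp.2.1.isPrime
  have : Mq.IsPrime := hMq.2.1.isPrime
  have := Fact.mk hMq.1
  have := charP_kres hMq
  have hBp : IsPBlock Mp (principalBlock Mp G) := isPBlock_principalBlock
  have hBq : IsPBlock Mq (principalBlock Mq G) := isPBlock_principalBlock
  set Bp := principalBlock Mp G
  set Bq := principalBlock Mq G
  let F : G → ℂ := fun a =>
    ∑ χ : IrrCharacter G, if χ ∈ Bp then (χ : G → ℂ) a * conj ((χ : G → ℂ) u) else 0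
  let w : G → ℂ := fun a => blockCoeff Bq a * F a
  have hFcl : ∀ a b : G, F (b * a * b⁻¹) = F a := fun a b =>
    Finset.sum_congr rfl fun χ _ => by rw [CfsgLib.Char.irr_isClassFunction χ.2 a b]
  have hwR : ∀ a, MemLocalRing Mq (w a) := by
    intro a
    refine memLocalRing_mul (blockCoeff_memLocalRing hMq hBq a) (memLocalRing_sum _ _ fun χ _ => ?_)
    split
    · refine memLocalRing_mul
        (memLocalRing_of_isIntegral (irr_apply_isIntegral (CfsgLib.Char.irr_isCharacter χ.2) a)) ?_
      rw [irr_conj_eq χ.2]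
      exact memLocalRing_of_isIntegral (irr_apply_isIntegral (CfsgLib.Char.irr_isCharacter χ.2) _)
    · exact (lring Mq).zero_mem
  -- the total is `1`
  have htot : ∑ a, w a = 1 := by
    simp only [w, F, Finset.mul_sum]
    rw [Finset.sum_comm]
    have hterm : ∀ χ : IrrCharacter G,
        (∑ a, blockCoeff Bq a *
          if χ ∈ Bp then (χ : G → ℂ) a * conj ((χ : G → ℂ) u) else 0) =
        if (χ : G → ℂ) = (fun _ => 1) then 1 else 0 := by
      intro χ
      by_cases hχ : χ ∈ Bp
      · simp only [if_pos hχ, ← mul_assoc, ← Finset.sum_mul]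
        have h1 := omegaC_blockSum Bq χ
        rw [omegaC_eq, div_eq_iff (CfsgLib.Char.irr_apply_one_ne_zero χ.2)] at h1
        simp only [blockSum, coeff_mkGA] at h1
        rw [h1]
        by_cases hq : χ ∈ Bq
        · rw [if_pos hq, if_pos (h χ hχ hq), h χ hχ hq]
          simp
        · rw [if_neg hq, if_neg]
          · simp
          · intro hone
            apply hq
            rw [show χ = ⟨fun _ => 1, CfsgLib.Char.isIrrCharacter_one⟩ from Subtype.ext hone]
            exact one_mem_principalBlock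
      · simp only [if_neg hχ, mul_zero, Finset.sum_const_zero]
        rw [if_neg]
        intro hone
        apply hχ
        rw [show χ = ⟨fun _ => 1, CfsgLib.Char.isIrrCharacter_one⟩ from Subtype.ext hone]
        exact one_mem_principalBlock
    rw [Finset.sum_congr rfl fun χ _ => hterm χ,
      Finset.sum_eq_single (⟨fun _ => 1, CfsgLib.Char.isIrrCharacter_one⟩ : IrrCharacter G)]
    · simp
    · intro χ _ hne
      rw [if_neg fun h' => hne (Subtype.ext h')]
    · simp
  -- count modulo `q`
  let P' : Subgroup (ConjAct G) := (Q : Subgroup G).map (ConjAct.toConjAct (G := G)).toMonoidHom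
  have hP' : IsPGroup q P' := Q.isPGroup'.map _
  have hmod := CfsgLib.Block.sum_eq_sum_fixed (P := P') (α := G) hP' (N := kres Mq)
    (fun v => by rw [nsmul_eq_mul, CharP.cast_eq_zero, zero_mul]) (fun a => redC Mq (w a))
    (fun g a => by
      have e : g • a = ConjAct.ofConjAct (g : ConjAct G) * a * (ConjAct.ofConjAct (g : ConjAct G))⁻¹ :=
        rfl
      simp only [w, e, hFcl]
      congr 2
      exact blockSum_isClassCoeff Bq _ _)
  rw [← redC_sum _ _ (fun a _ => hwR a), htot, redC_one] at hmod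
  obtain ⟨a, ha, hwa⟩ : ∃ a : G, a ∈ MulAction.fixedPoints P' G ∧ w a ≠ 0 := by
    by_contra hno
    push Not at hno
    refine one_ne_zero (α := kres Mq) (hmod.trans (Finset.sum_eq_zero fun a ha => ?_))
    rw [hno a (Finset.mem_filter.1 ha).2, redC_zero]
  have hFa : F a ≠ 0 := fun h0 => hwa (by simp [w, h0])
  obtain ⟨x, hx⟩ := exists_isPPart hMp.1 a
  refine ⟨x, ?_, ?_⟩
  · by_contra hne
    apply hFa
    have h0 := sum_block_eq_zero hMp hBp hx (isPPart_self hu hMp.1) fun hc => hne hc.symm
    rw [finsum_mem_def, finsum_eq_sum_of_fintype] at h0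
    rw [← h0]
    exact Finset.sum_congr rfl fun χ _ => by rw [Set.indicator_apply]
  · intro g hg
    rw [Subgroup.mem_centralizer_singleton_iff]
    have hfix : g * a * g⁻¹ = a :=
      MulAction.mem_fixedPoints.1 ha ⟨ConjAct.toConjAct g, g, hg, rfl⟩
    have hc : Commute a g := (mul_inv_eq_iff_eq_mul.1 hfix).symm
    exact (isPPart_commute hMp.1 hx hc).symm

/-- With a `p`-power index centralizer, a Sylow `p`-subgroup realises every conjugate. -/
theorem exists_mem_sylow_conj {p : ℕ} [hp : Fact p.Prime] (P : Sylow p G) {u : G} {k : ℕ}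
    (hk : (Subgroup.centralizer ({u} : Set G)).index = p ^ k) (g : G) :
    ∃ h ∈ (P : Subgroup G), g * u * g⁻¹ = h * u * h⁻¹ := by
  classical
  set C := Subgroup.centralizer ({u} : Set G) with hC
  have hstab : MulAction.stabilizer (P : Subgroup G) ((1 : G) : G ⧸ C) = C.subgroupOf P := by
    ext x
    rw [MulAction.mem_stabilizer_iff, Subgroup.mem_subgroupOf]
    change ((((x : G) * 1 : G)) : G ⧸ C) = _ ↔ _
    rw [QuotientGroup.eq, mul_one, mul_one, inv_mem_iff]
  have horb := MulAction.index_stabilizer (P : Subgroup G) ((1 : G) : G ⧸ C)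
  rw [hstab] at horb
  -- `p ^ k` divides the orbit length
  have hdvd : p ^ k ∣ (C.subgroupOf P).index := by
    have h1 : Nat.card (C.subgroupOf (P : Subgroup G)) * (C.subgroupOf P).index =
        Nat.card (P : Subgroup G) := Subgroup.card_mul_index _
    have h2 : Nat.card (C.subgroupOf (P : Subgroup G)) ∣ Nat.card C := by
      have e : Nat.card (C.subgroupOf (P : Subgroup G)) = Nat.card ↥(C ⊓ (P : Subgroup G)) := by
        rw [← Subgroup.inf_subgroupOf_right,
          Nat.card_congr (Subgroup.subgroupOfEquivOfLe inf_le_right).toEquiv]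
      rw [e]
      exact Subgroup.card_dvd_of_le inf_le_left
    obtain ⟨a, -, ha⟩ := (Nat.dvd_prime_pow hp.out).1
      (P.card_eq_multiplicity ▸ Dvd.intro _ h1 : Nat.card (C.subgroupOf (P : Subgroup G)) ∣
        p ^ (Nat.card G).factorization p)
    have h4 : p ^ a * p ^ k ∣ Nat.card G := by
      rw [← C.card_mul_index, hk]
      exact mul_dvd_mul_right (ha ▸ h2) _
    rw [← pow_add] at h4
    have h5 : a + k ≤ (Nat.card G).factorization p :=
      (hp.out.pow_dvd_iff_le_factorization Nat.card_pos.ne').1 h4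
    have h6 : p ^ (a + k) ∣ p ^ a * (C.subgroupOf P).index := by
      rw [← ha, h1, P.card_eq_multiplicity]
      exact pow_dvd_pow p h5
    rw [pow_add] at h6
    exact (Nat.mul_dvd_mul_iff_left (pow_pos hp.out.pos a)).1 h6
  have huniv : MulAction.orbit (P : Subgroup G) ((1 : G) : G ⧸ C) = Set.univ := by
    refine Set.eq_of_subset_of_ncard_le (Set.subset_univ _) ?_ (Set.toFinite _)
    rw [Set.ncard_univ, ← horb]
    change C.index ≤ _
    rw [hk]
    exact Nat.le_of_dvd (Nat.pos_of_ne_zero Subgroup.index_ne_zero_of_finite) hdvd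
  obtain ⟨⟨h, hh⟩, he⟩ : (g : G ⧸ C) ∈ MulAction.orbit (P : Subgroup G) ((1 : G) : G ⧸ C) := by
    rw [huniv]; trivial
  refine ⟨h, hh, ?_⟩
  have he' : (((h * 1 : G)) : G ⧸ C) = (g : G ⧸ C) := he
  rw [QuotientGroup.eq, mul_one, hC, Subgroup.mem_centralizer_singleton_iff] at he'
  calc g * u * g⁻¹ = h * ((h⁻¹ * g) * u) * g⁻¹ := by group
    _ = h * (u * (h⁻¹ * g)) * g⁻¹ := by rw [he']
    _ = h * u * h⁻¹ := by group

/-- A subgroup of a finite `p`-group meeting every class is the whole group. -/
theorem eq_top_of_meets_classes {p : ℕ} [Fact p.Prime] {K : Type u} [Group K] [Finite K]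
    (hK : IsPGroup p K) (D : Subgroup K) (h : ∀ x : K, ∃ g : K, g * x * g⁻¹ ∈ D) : D = ⊤ := by
  rcases eq_top_or_exists_le_coatom D with hD | ⟨M, hM, hle⟩
  · exact hD
  · have := hK.isNilpotent
    have hn : M.Normal :=
      Subgroup.NormalizerCondition.normal_of_coatom M normalizerCondition_of_isNilpotent hM
    refine absurd (eq_top_iff.2 fun x _ => ?_) hM.1
    obtain ⟨g, hg⟩ := h x
    simpa [mul_assoc] using hn.conj_mem _ (hle hg) g⁻¹

/-- Group-theoretic content: if each `p`-element is conjugate into the centralizer of each Sylow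
subgroup for the other primes, the Sylow `p`-subgroup is a direct factor. -/
theorem sylow_direct_factor {p : ℕ} [hp : Fact p.Prime] (P : Sylow p G)
    (h : ∀ q : ℕ, q.Prime → q ≠ p → q ∣ Nat.card G → ∀ (Q : Sylow q G) (u : G),
      (∃ k : ℕ, orderOf u = p ^ k) →
        ∃ x : G, IsConj u x ∧ (Q : Subgroup G) ≤ Subgroup.centralizer ({x} : Set G)) :
    (P : Subgroup G).Normal ∧ (P : Subgroup G) ⊔ pPrimeCore p G = ⊤ := by
  classical
  have := Fintype.ofFinite G
  have hpel : ∀ u ∈ (P : Subgroup G), ∃ k : ℕ, orderOf u = p ^ k := fun u hu => by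
    obtain ⟨k, hk⟩ := IsPGroup.iff_orderOf.1 P.isPGroup' ⟨u, hu⟩
    exact ⟨k, by rw [← hk, Subgroup.orderOf_mk]⟩
  have hconj : ∀ u ∈ (P : Subgroup G), ∀ g : G,
      ∃ h' ∈ (P : Subgroup G), g * u * g⁻¹ = h' * u * h'⁻¹ := by
    intro u hu g
    refine exists_mem_sylow_conj P (Nat.eq_prime_pow_of_unique_prime_dvd
      Subgroup.index_ne_zero_of_finite fun {d} hd hdvd => ?_) g
    by_contra hne
    have hdG : d ∣ Nat.card G := hdvd.trans (Subgroup.index_dvd_card _)
    have := Fact.mk hd
    obtain ⟨Q⟩ := (inferInstance : Nonempty (Sylow d G))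
    obtain ⟨x, hx, hQx⟩ := h d hd hne hdG Q u (hpel u hu)
    rw [← CfsgLib.Char.natCard_carrier_eq_index, ConjClasses.mk_eq_mk_iff_isConj.2 hx,
      CfsgLib.Char.natCard_carrier_eq_index] at hdvd
    exact Q.not_dvd_index (hdvd.trans (Subgroup.index_dvd_of_le hQx))
  have hN : (P : Subgroup G).Normal := ⟨fun u hu g => by
    obtain ⟨h', hh', e⟩ := hconj u hu g
    rw [e]
    exact mul_mem (mul_mem hh' hu) (inv_mem hh')⟩
  refine ⟨hN, ?_⟩
  set Z := Subgroup.centralizer ((P : Subgroup G) : Set G) with hZ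
  have hcent : ∀ q : ℕ, q.Prime → q ≠ p → q ∣ Nat.card G → ∀ Q : Sylow q G,
      (Q : Subgroup G) ≤ Z := by
    intro q hq hne hqG Q
    have key : (Subgroup.centralizer ((Q : Subgroup G) : Set G)).subgroupOf (P : Subgroup G) = ⊤ := by
      refine eq_top_of_meets_classes P.isPGroup' _ fun x => ?_
      obtain ⟨y, hy, hQy⟩ := h q hq hne hqG Q (x : G) (hpel _ x.2)
      obtain ⟨g, rfl⟩ := isConj_iff.1 hy
      obtain ⟨h', hh', e⟩ := hconj (x : G) x.2 g
      refine ⟨⟨h', hh'⟩, ?_⟩
      rw [Subgroup.mem_subgroupOf]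
      push_cast
      rw [← e, Subgroup.mem_centralizer_iff]
      exact fun a ha => Subgroup.mem_centralizer_singleton_iff.1 (hQy ha)
    rw [Subgroup.subgroupOf_eq_top] at key
    exact Subgroup.le_centralizer_iff.1 key
  obtain ⟨H, hH⟩ := Subgroup.exists_right_complement'_of_coprime
    (N := (P : Subgroup G)) P.card_coprime_index
  have hcard : (Nat.card H).Coprime p := by
    rw [← hH.symm.index_eq_card]
    exact (hp.out.coprime_iff_not_dvd.2 P.not_dvd_index).symm
  have hHZ : H ≤ Z := by
    intro x hx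
    have : Z.Normal := Subgroup.normal_centralizer
    rw [← QuotientGroup.eq_one_iff, ← orderOf_eq_one_iff]
    apply Nat.eq_one_iff_not_exists_prime_dvd.2
    intro d hd hdx
    have h1 : d ∣ Z.index := by
      rw [Subgroup.index_eq_card]
      exact hdx.trans (orderOf_dvd_natCard _)
    have h2 : d ∣ Nat.card H :=
      hdx.trans ((orderOf_map_dvd (QuotientGroup.mk' Z) x).trans (H.orderOf_dvd_natCard hx))
    have hne : d ≠ p := by
      rintro rfl
      exact hd.not_dvd_one (hcard ▸ Nat.dvd_gcd h2 (dvd_refl d))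
    have := Fact.mk hd
    obtain ⟨Q⟩ := (inferInstance : Nonempty (Sylow d G))
    exact Q.not_dvd_index (h1.trans (Subgroup.index_dvd_of_le
      (hcent d hd hne (h1.trans (Subgroup.index_dvd_card _)) Q)))
  have hHn : H.Normal := by
    rw [← Subgroup.normalizer_eq_top_iff, eq_top_iff, ← hH.sup_eq_top, sup_le_iff]
    exact ⟨(Subgroup.le_centralizer_iff.1 hHZ).trans (Subgroup.centralizer_le_normalizer _),
      Subgroup.le_normalizer⟩
  exact eq_top_iff.2 (hH.sup_eq_top ▸ sup_le_sup le_rfl (CfsgLib.Solvable.le_pPrimeCore hHn hcard))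

/-- The converse. -/
theorem eq_one_of_mem_both {p q : ℕ} [hp : Fact p.Prime] (hqp : q ≠ p) {Mp Mq : Ideal AlgInt}
    (hMp : IsPModular p Mp) (hMq : IsPModular q Mq) (P : Sylow p G)
    (hP : (P : Subgroup G).Normal) (hsup : (P : Subgroup G) ⊔ pPrimeCore p G = ⊤)
    {χ : IrrCharacter G} (h1 : χ ∈ principalBlock Mp G) (h2 : χ ∈ principalBlock Mq G) :
    (χ : G → ℂ) = fun _ => 1 := by
  classical
  have := Fintype.ofFinite G
  have : Mp.IsPrime := hMp.2.1.isPrime
  have : Mq.IsPrime := hMq.2.1.isPrime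
  have := CfsgLib.Solvable.pPrimeCore_normal p G
  have hle : (P : Subgroup G) ⊔ pPrimeCore p G ≤ kerIrr χ := by
    refine sup_le (le_kerIrr_of_mem_principalBlock hMq ?_ h2)
      (le_kerIrr_of_mem_principalBlock hMp ?_ h1)
    · rw [P.card_eq_multiplicity]
      exact fun hd => hqp ((Nat.prime_dvd_prime_iff_eq hMq.1 hp.out).1 (hMq.1.dvd_of_dvd_pow hd))
    · exact hp.out.coprime_iff_not_dvd.1 (CfsgLib.Solvable.pPrimeCore_coprime p).symm
  rw [hsup] at hle
  have hconst : ∀ g, (χ : G → ℂ) g = (χ : G → ℂ) 1 := fun g => mem_kerIrr.1 (hle trivial)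
  by_contra hne
  apply CfsgLib.Char.irr_apply_one_ne_zero χ.2
  have h0 := CfsgLib.Char.irr_classInner_ne χ.2 CfsgLib.Char.isIrrCharacter_one hne
  rw [CfsgLib.Char.classInner_def] at h0
  simpa [hconst, CfsgLib.Char.natCard_ne_zero] using h0

end CfsgLib.BlockMeet
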